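import Cfsg.Agent.H713.TC.Fi24Row
import Cfsg.Agent.H133.TC.FiT1
import Cfsg.Agent.H293.PwF.TC
import Cfsg.Agent.H210.TC.Row

/-!
# `Fi24'`, the row of S4173 / S2464 / S2452 (helper713)

* `pi` : every element of `Fi24'` is the product of a conjugate of `x0` and a conjugate of `x0⁻¹` (order 23);
* `row3_Fi24'`, `tc_Fi24'`, `tc6_Fi24'`.
-/

set_option autoImplicit false

open Cfsg Subgroup

namespace Cfsg.Agent.H713.TC.FiTF

theorem pi (g : Spor.Fi24') : PI x0 g :=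
  pi_all H133.TC.prd23 (fun k _ => ⟨H293.PwF.x0, H293.PwF.orderOf_x0, H293.PwF.qx_all k⟩) g

theorem row3_model : Cfsg.Agent.H210.TC.Row3 Spor.Fi24' := by
  have hp : (orderOf x0).Prime := by rw [order_x0]; norm_num
  have h6 : Nat.Coprime (orderOf x0) 6 := by rw [order_x0]; norm_num
  refine ⟨x0, x0⁻¹, hp, h6, by rwa [orderOf_inv], by rwa [orderOf_inv], fun g _ => pi g, fun g => ?_⟩
  obtain ⟨a, b, hab⟩ := H133.TC.prd (x := x0) (y := x0) order_x0 order_x0 (g := x0⁻¹) (by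
    rw [H161.Rec.FiTF.sc23 x0⁻¹ (by rw [orderOf_inv, order_x0])]
    norm_num)
  obtain ⟨u, v, h⟩ := pi g
  refine ⟨u, v * a, v * b, ?_⟩
  rw [h, hab]
  group

/-- **the row `Fi24'` of S4173, S2464, S2452** -/
theorem row3_Fi24' {S : Type*} [Group S] (h : Spor.IsoFi24' S) : Cfsg.Agent.H210.TC.Row3 S := by
  obtain ⟨e⟩ := h
  exact Cfsg.Agent.H210.TC.Row3.of_equiv e row3_model

/-- **the row `Fi24'` of S4173** -/
theorem tc_Fi24' {S : Type*} [Group S] (h : Spor.IsoFi24' S) : Cfsg.Agent.H140.TC.TC S := tc_of h pi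

/-- **the row `Fi24'` of S2464** -/
theorem tc6_Fi24' {S : Type*} [Group S] (h : Spor.IsoFi24' S) :
    ∃ x y : S, Nat.Coprime (orderOf x) 6 ∧ Nat.Coprime (orderOf y) 6 ∧
      ∀ g : S, g ≠ 1 → ∃ u v : S, g = (u * x * u⁻¹) * (v * y * v⁻¹) := tc6_of h pi

end Cfsg.Agent.H713.TC.FiTF
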