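import Cfsg.Agent.H854.Ore.ExtProd

/-!
# Products of a conjugate of `x` and a conjugate of `x⁻¹` (helper713, S4173)

* `PI x g`; `PI.inv`, `PI.conj`, `PI.of_conj`, `PI.map`, `PI.comm`;
* `MExt.two_pi` : `2^11 . M24` of odd index: every 2-element is `PI a g` for an element `a` of order 23.
-/

set_option autoImplicit false

open Cfsg Subgroup

namespace Cfsg.Agent.H713.TC

/-- `g` is a product of a conjugate of `x` and a conjugate of `x⁻¹` -/
def PI {G : Type*} [Group G] (x g : G) : Prop := ∃ u v : G, g = (u * x * u⁻¹) * (v * x⁻¹ * v⁻¹)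

section

variable {G H : Type*} [Group G] [Group H] {x g : G}

theorem PI.inv (h : PI x g) : PI x⁻¹ g := by
  obtain ⟨u, v, rfl⟩ := h
  exact ⟨u * x * u⁻¹ * v, u, by group⟩

theorem PI.of_inv (h : PI x⁻¹ g) : PI x g := by
  have := h.inv
  rwa [inv_inv] at this

theorem PI.of_conj {c : G} (h : PI (c * x * c⁻¹) g) : PI x g := by
  obtain ⟨u, v, rfl⟩ := h
  exact ⟨u * c, v * c, by group⟩

theorem PI.conj (h : PI x g) (c : G) : PI x (c * g * c⁻¹) := by
  obtain ⟨u, v, rfl⟩ := h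
  exact ⟨c * u, c * v, by group⟩

theorem PI.conj' {c : G} (h : PI x (c * g * c⁻¹)) : PI x g := by
  have := h.conj c⁻¹
  rwa [show c⁻¹ * (c * g * c⁻¹) * c⁻¹⁻¹ = g by group] at this

theorem PI.inv_right (h : PI x g) : PI x g⁻¹ := by
  obtain ⟨u, v, rfl⟩ := h
  exact ⟨v, u, by group⟩

theorem PI.map (h : PI x g) (f : G →* H) : PI (f x) (f g) := by
  obtain ⟨u, v, rfl⟩ := h
  exact ⟨f u, f v, by simp⟩

theorem PI.one : PI x (1 : G) := ⟨1, 1, by simp⟩

theorem PI.comm {a b : G} (h : g = b * a * b⁻¹ * a⁻¹) : PI a g := ⟨b, 1, by rw [h]; simp⟩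

/-- the pair does not depend on the element `y` if every `y` is conjugate to `x` or `x⁻¹` -/
theorem PI.change {y : G} (h : PI y g) (hc : ∃ c : G, y = c * x * c⁻¹ ∨ y = c * x⁻¹ * c⁻¹) : PI x g := by
  obtain ⟨c, rfl | rfl⟩ := hc
  · exact h.of_conj
  · exact h.of_conj.of_inv

end

end Cfsg.Agent.H713.TC

namespace Cfsg.Agent.H854.Ore.MExt

open Cfsg.Agent.SporadicStructure.M24El Cfsg.Agent.SporadicA.GolayPerm Cfsg.Agent.Lib.F2Mat
open Cfsg.Agent.H713.TC

variable {G : Type*} [Group G] [Finite G] {A N : Subgroup G} {π : N →* M24}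

/-- **every 2-element is a product of a conjugate of `a` and a conjugate of `a⁻¹`, `a` of order 23** -/
theorem two_pi (H : MExt A N π) {g : G} {n : ℕ} (hg : g ^ 2 ^ n = 1) : ∃ a : G, orderOf a = 23 ∧ PI a g := by
  obtain ⟨h, c, rfl, hu⟩ := H.into hg
  obtain ⟨a, b, hab, ha⟩ := H831.Ore.two_M24 (u := (π h)⁻¹) (n := n) (by rw [inv_pow, hu, inv_one])
  have hab' : π h = b * a * b⁻¹ * a⁻¹ := by
    rw [← inv_inv (π h), hab]; group
  have ha23 : a ^ 23 = 1 := by rw [← ha, pow_orderOf_eq_one]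
  have ha1 : a ≠ 1 := by
    rintro rfl
    rw [orderOf_one] at ha
    omega
  obtain ⟨a', rfl, ha'⟩ := H.liftV ha23
  obtain ⟨b', rfl⟩ := H.surj b
  have hs : (π (b' * a' * b'⁻¹)) ^ 23 = 1 := by
    rw [map_mul, map_mul, map_inv, conj_pow, ha23]; group
  have hs1 : π (b' * a' * b'⁻¹) ≠ 1 := by
    intro h1
    apply ha1
    have h3 : π a' = (π b')⁻¹ * π (b' * a' * b'⁻¹) * π b' := by rw [map_mul, map_mul, map_inv]; group
    rw [h3, h1]; group
  have hv : (h : G) * ((b' * a' * b'⁻¹ * a'⁻¹ : N) : G)⁻¹ ∈ A := by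
    rw [← Subgroup.coe_inv, ← Subgroup.coe_mul, ← H.ker, map_mul, map_inv, hab']
    simp only [map_mul, map_inv]
    group
  obtain ⟨x, hx, hxv⟩ := H.fill hs hs1 hv
  have key : (h : G) = (x * b') * a' * (x * b')⁻¹ * (a' : G)⁻¹ := by
    calc (h : G) = (h : G) * ((b' * a' * b'⁻¹ * a'⁻¹ : N) : G)⁻¹ * ((b' * a' * b'⁻¹ * a'⁻¹ : N) : G) := by group
      _ = x * (((b' * a' * b'⁻¹ : N) : G) * x⁻¹ * ((b' * a' * b'⁻¹ : N) : G)⁻¹) * ((b' * a' * b'⁻¹ * a'⁻¹ : N) : G) := by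
        rw [hxv]
      _ = _ := by push_cast; group
  refine ⟨a', ?_, (PI.comm key).conj c⟩
  have : Fact (Nat.Prime 23) := ⟨by norm_num⟩
  refine orderOf_eq_prime ha' ?_
  intro h1
  apply ha1
  have h2 : a' = 1 := Subtype.ext h1
  rw [h2, map_one]

end Cfsg.Agent.H854.Ore.MExt
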