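import Cfsg.Agent.H713.TC.FiCl
import Cfsg.Agent.H48.OreFi.PForm

/-!
# `Fi24'`, the row of S4173 / S2464: the frame (helper713)

* `pi_all` : from the sieve at 23 and the row of `Fi23`, every element of `Fi24'` is a product of a conjugate of `x0` and a
  conjugate of `x0⁻¹` (`x0` of order 23).
-/

set_option autoImplicit false

open Cfsg Subgroup

namespace Cfsg.Agent.H713.TC.FiTF

theorem pi_all
    (hb : ∀ g : Spor.Fi24', Nat.card (centralizer ({g} : Set Spor.Fi24')) ≤ 78382080 →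
      ∃ x : Spor.Fi24', orderOf x = 23 ∧ ∃ u v : Spor.Fi24', g = (u * x * u⁻¹) * (v * x⁻¹ * v⁻¹))
    (h23 : ∀ k : Spor.Fi23, k ≠ 1 →
      ∃ x : Spor.Fi23, orderOf x = 23 ∧ ∃ u v : Spor.Fi23, k = (u * x * u⁻¹) * (v * x⁻¹ * v⁻¹))
    (g : Spor.Fi24') : PI x0 g := by
  refine H48.OreFi.PForm.all_of (P := PI x0) (fun g h => ?_) pi_two (pi_fix h23) pi_four g
  obtain ⟨x, hx, h'⟩ := hb g h
  exact pi_change hx h'

end Cfsg.Agent.H713.TC.FiTF
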