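import Cfsg.Agent.H713.TC.Fi24
import Cfsg.Agent.H140.TC.Fam

/-!
# `Fi24'`, the row of S4173 / S2464 (helper713)
-/

set_option autoImplicit false

open Cfsg Subgroup

namespace Cfsg.Agent.H713.TC.FiTF

/-- the conclusion of the row, in any group isomorphic to `Fi24'` -/
theorem classes_of {S : Type*} [Group S] (h : Spor.IsoFi24' S) (H : ∀ g : Spor.Fi24', PI x0 g) :
    ∃ x y : S, orderOf x = 23 ∧ orderOf y = 23 ∧ ∀ g : S, ∃ u v : S, g = (u * x * u⁻¹) * (v * y * v⁻¹) := by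
  obtain ⟨e⟩ := h
  have hx : orderOf (e.symm x0) = 23 := by rw [MulEquiv.orderOf_eq, order_x0]
  refine ⟨e.symm x0, (e.symm x0)⁻¹, hx, by rw [orderOf_inv, hx], fun g => ?_⟩
  have h1 := (H (e g)).map e.symm.toMonoidHom
  have h2 : e.symm.toMonoidHom (e g) = g := e.symm_apply_apply g
  rw [h2] at h1
  exact h1

theorem tc_of {S : Type*} [Group S] (h : Spor.IsoFi24' S) (H : ∀ g : Spor.Fi24', PI x0 g) : Cfsg.Agent.H140.TC.TC S := by
  obtain ⟨x, y, -, -, hxy⟩ := classes_of h H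
  exact ⟨x, y, fun g _ => hxy g⟩

theorem tc6_of {S : Type*} [Group S] (h : Spor.IsoFi24' S) (H : ∀ g : Spor.Fi24', PI x0 g) :
    ∃ x y : S, Nat.Coprime (orderOf x) 6 ∧ Nat.Coprime (orderOf y) 6 ∧
      ∀ g : S, g ≠ 1 → ∃ u v : S, g = (u * x * u⁻¹) * (v * y * v⁻¹) := by
  obtain ⟨x, y, hx, hy, hxy⟩ := classes_of h H
  exact ⟨x, y, by rw [hx]; norm_num, by rw [hy]; norm_num, fun g _ => hxy g⟩

end Cfsg.Agent.H713.TC.FiTF
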