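import Cfsg.Agent.H713.TC.Base
import Cfsg.Agent.H843.N23
import Cfsg.Agent.H49.Four.ThreeInv
import Cfsg.Agent.H854.Ore.Fi24Two
import Cfsg.Agent.R08.FiTwentyFour

/-!
# `Fi24'`: the elements of order 23; the class `X 4` of elements of order 3 (helper713, S4173)

* `x0` : an element of order 23 of `Fi24'`; `cl` : every element of order 23 is conjugate to `x0` or `x0⁻¹`;
* `pi_change` : `PI y g → PI x0 g` for `y` of order 23;
* `pi_two` : the 2-elements; `pi_four` : the elements conjugate to `(X 4) ^ (± 1)`; `pi_fix` : the elements commuting with a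
  transposition, from the row of `Fi23`.
-/

set_option autoImplicit false
set_option maxRecDepth 100000
set_option Elab.async false

open Cfsg Subgroup

namespace Cfsg.Agent.H713.TC.FiTF

open Cfsg.Agent Cfsg.Agent.Fischer.Fi24RepDef Cfsg.Agent.Fischer.Fi24Rep
open Cfsg.Agent.Fischer.Fi24Spider (word_append word_cons word_nil)
open Cfsg.Agent.Fischer.Fi24Final (sgn sgn_gen)
open Cfsg.Agent.H843 Cfsg.Agent.H843.Pat Cfsg.Agent.H843.Fi24N
open Cfsg.Agent.R08.FiTwentyFour (L facts mem_commutator_iff finite_Fi24 card_commutator)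
open Cfsg.Agent.H827.CocoD (word_mem)
open Cfsg.Agent.Lib.PermNet Cfsg.Agent.Lib.PermNetPt
open Cfsg.Spor (Fi24)
open Cfsg.Spor.Fi24 (Gen)

instance finF' : Finite Spor.Fi24' := H854.Ore.Fi24.finite'

/-- an element of order 23 -/
noncomputable def x0 : Spor.Fi24' := ⟨word D23.xw, word_mem (by decide)⟩

theorem order_x0 : orderOf x0 = 23 := by
  rw [← Subgroup.orderOf_coe]
  exact D23.order

theorem step : word D23.w4 * word D23.xw * (word D23.w4)⁻¹ = word D23.xw ^ 4 := conj_of D23.h4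

theorem step_pow (i : ℕ) : (word D23.w4) ^ i * word D23.xw * ((word D23.w4) ^ i)⁻¹ = word D23.xw ^ 4 ^ i := by
  induction i with
  | zero => simp
  | succ i ih =>
    calc (word D23.w4) ^ (i + 1) * word D23.xw * ((word D23.w4) ^ (i + 1))⁻¹
        = word D23.w4 ^ i * (word D23.w4 * word D23.xw * (word D23.w4)⁻¹) * (word D23.w4 ^ i)⁻¹ := by
          rw [pow_succ]; group
      _ = (word D23.w4 ^ i * word D23.xw * (word D23.w4 ^ i)⁻¹) ^ 4 := by rw [step, conj_pow]
      _ = _ := by rw [ih, ← pow_mul, pow_succ]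

theorem exps : ∀ r < 23, r ≠ 0 → ∃ i < 11, r = 4 ^ i % 23 ∨ (r + 4 ^ i) % 23 = 0 := by decide

/-- a conjugating element can be taken in the derived subgroup -/
theorem adjust {y : Fi24} (c : Fi24) (h : c * word D23.xw * c⁻¹ = y) :
    ∃ c' : Spor.Fi24', (c' : Fi24) * word D23.xw * (c' : Fi24)⁻¹ = y := by
  by_cases hc : sgn c = 1
  · exact ⟨⟨c, mem_commutator_iff.2 hc⟩, h⟩
  · have hl : word [.l] * word D23.xw * (word [.l])⁻¹ = word D23.xw := by
      have := D23.conj_l
      rwa [pow_one] at this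
    refine ⟨⟨c * word [.l], mem_commutator_iff.2 ?_⟩, ?_⟩
    · have h1 : sgn c = -1 := by
        rcases Int.units_eq_one_or (sgn c) with h1 | h1
        · exact absurd h1 hc
        · exact h1
      rw [map_mul, h1, H49.Four.ThreeInv.sgn_word]
      rfl
    · show c * word [.l] * word D23.xw * (c * word [.l])⁻¹ = y
      calc c * word [.l] * word D23.xw * (c * word [.l])⁻¹
          = c * (word [.l] * word D23.xw * (word [.l])⁻¹) * c⁻¹ := by group
        _ = y := by rw [hl, h]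

/-- **every element of order 23 is conjugate to `x0` or `x0⁻¹`** -/
theorem cl {y : Spor.Fi24'} (hy : orderOf y = 23) : ∃ c : Spor.Fi24', y = c * x0 * c⁻¹ ∨ y = c * x0⁻¹ * c⁻¹ := by
  have hp : Fact (Nat.Prime 23) := ⟨by norm_num⟩
  have h2 : ¬ 23 ^ 2 ∣ Nat.card Spor.Fi24' := by
    rw [card_commutator]
    norm_num
  have hs : ∀ {z : Spor.Fi24'}, orderOf z = 23 → ∃ S : Sylow 23 Spor.Fi24', (S : Subgroup Spor.Fi24') = zpowers z := by
    intro z hz
    have hc : Nat.card (zpowers z) = 23 ^ 1 := by rw [Nat.card_zpowers, hz, pow_one]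
    obtain ⟨S, hS⟩ := (IsPGroup.of_card hc).exists_le_sylow
    refine ⟨S, (Subgroup.eq_of_le_of_card_ge hS ?_).symm⟩
    obtain ⟨k, hk⟩ := IsPGroup.iff_card.1 S.2
    have hk1 : k ≤ 1 := by
      by_contra hlt
      exact h2 ((pow_dvd_pow 23 (by omega)).trans (hk ▸ Subgroup.card_subgroup_dvd_card _))
    rw [hk, hc]
    exact Nat.pow_le_pow_right hp.out.pos hk1
  obtain ⟨S, hS⟩ := hs order_x0
  obtain ⟨T, hT⟩ := hs hy
  obtain ⟨g, hg⟩ := MulAction.exists_smul_eq Spor.Fi24' T S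
  have h1 : g * y * g⁻¹ ∈ zpowers x0 := by
    rw [← hS, ← hg, Sylow.coe_subgroup_smul, hT]
    exact Subgroup.smul_mem_pointwise_smul _ _ _ (mem_zpowers y)
  obtain ⟨n, hn⟩ := (isOfFinOrder_of_finite x0).mem_powers_iff_mem_zpowers.2 h1
  have hn' : x0 ^ n = g * y * g⁻¹ := hn
  have hn2 : x0 ^ (n % 23) = g * y * g⁻¹ := by rw [← hn', ← order_x0, pow_mod_orderOf]
  have hr0 : n % 23 ≠ 0 := by
    intro h0
    rw [h0, pow_zero] at hn2
    have : y = 1 := by
      have e : y = g⁻¹ * (g * y * g⁻¹) * g := by group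
      rw [e, ← hn2]; group
    rw [this, orderOf_one] at hy
    omega
  obtain ⟨i, -, hi⟩ := exps (n % 23) (Nat.mod_lt _ (by norm_num)) hr0
  obtain ⟨c, hc⟩ := adjust _ (step_pow i)
  have hcx : c * x0 * c⁻¹ = x0 ^ 4 ^ i := Subtype.ext hc
  have ey : y = g⁻¹ * x0 ^ (n % 23) * g := by rw [hn2]; group
  refine ⟨g⁻¹ * c, ?_⟩
  rcases hi with hi | hi
  · left
    have e1 : x0 ^ (n % 23) = x0 ^ 4 ^ i := by
      rw [hi, ← order_x0, pow_mod_orderOf]
    rw [ey, e1, ← hcx]; group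
  · right
    have e1 : x0 ^ (n % 23) * x0 ^ 4 ^ i = 1 := by
      rw [← pow_add, ← orderOf_dvd_iff_pow_eq_one, order_x0]
      exact Nat.dvd_of_mod_eq_zero hi
    have e2 : x0 ^ (n % 23) = (c * x0 * c⁻¹)⁻¹ := by rw [hcx]; exact eq_inv_of_mul_eq_one_left e1
    rw [ey, e2]; group

/-- **the pair does not depend on the element of order 23** -/
theorem pi_change {y g : Spor.Fi24'} (hy : orderOf y = 23) (h : PI y g) : PI x0 g := h.change (cl hy)

/-- the elements of order 23 of `Fi24'` as images -/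
theorem orderOf_map {G : Type*} [Group G] (f : G →* Spor.Fi24') {x : G} (hf : Function.Injective f) (hx : orderOf x = 23) :
    orderOf (f x) = 23 := by rw [orderOf_injective f hf, hx]

/-- **the 2-elements** -/
theorem pi_two (g : Spor.Fi24') (n : ℕ) (hg : g ^ 2 ^ n = 1) : PI x0 g := by
  obtain ⟨a, ha, h⟩ := H854.Ore.Fi24.ext.two_pi hg
  exact pi_change ha h

/-! ### The class `X 4` -/

def pw : List Gen := [.c, .e, .b, .d, .h, .i, .c, .l, .d, .h, .e, .f, .i, .l, .k, .g, .c, .b, .h, .a, .l, .d]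

def sw : List Gen := [.i, .l, .b, .a, .e, .f, .c, .d, .e, .k, .a, .b, .c, .d, .h, .i, .g, .e, .f, .d, .e, .b, .c, .d, .h, .j, .g,
  .f, .e, .d, .c, .b, .a, .l, .k, .e, .d, .h, .i, .e, .b, .c, .d, .h, .d, .e, .f, .b, .c, .g, .d, .e, .f, .c,
  .d, .e, .a, .b, .c, .d, .h, .i, .c, .d, .e, .b, .c, .d, .h, .j, .g, .f, .e, .d, .c, .b, .a, .k, .l, .i, .f,
  .e, .d, .h, .f, .c, .d, .e, .b, .c, .d, .h, .i, .g, .f, .e, .d, .h, .g, .j, .b, .c, .d, .e, .f, .g, .b, .c,
  .d, .h, .e, .f, .d, .e, .c, .d, .h, .i, .f, .e, .d, .b, .c, .d]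

theorem chk_p : chkEq (rep 23 pw) [] = true := by decide +kernel

theorem chk_s : chkEq (sw ++ pw) (H49.Four.ThreeInv.xr 4 ++ (pw ++ sw)) = true := by decide +kernel

theorem chk_ne : Nat.beq (winv (nw pw false) 0) 0 = false := by decide +kernel

noncomputable def p4 : Spor.Fi24' := ⟨word pw, word_mem (by decide)⟩

noncomputable def s4 : Spor.Fi24' := ⟨word sw, word_mem (by decide)⟩

theorem order_p4 : orderOf p4 = 23 := by
  have : Fact (Nat.Prime 23) := ⟨by norm_num⟩
  refine orderOf_eq_prime ?_ ?_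
  · apply Subtype.ext
    show word pw ^ 23 = 1
    have h1 := word_eq_of chk_p
    rwa [word_rep, word_nil] at h1
  · intro h
    have h1 : word pw = 1 := congrArg Subtype.val h
    have h2 : winv (nw pw false) 0 = 0 := by rw [winv_word, h1]; simp
    have h3 := chk_ne
    rw [h2] at h3
    exact absurd h3 (by decide)

theorem x4_eq : H842.ThreeCl.X 4 = (s4 * p4 * s4⁻¹ * p4⁻¹ : Spor.Fi24') := by
  have h1 := word_eq_of chk_s
  rw [word_append, word_append, word_append, ← H49.Four.ThreeInv.X_eq] at h1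
  show H842.ThreeCl.X 4 = word sw * word pw * (word sw)⁻¹ * (word pw)⁻¹
  rw [h1]; group

/-- **the elements conjugate to `(X 4) ^ (± 1)`** -/
theorem pi_four (g : Spor.Fi24') (y : Fi24) (h : y * (g : Fi24) * y⁻¹ = H842.ThreeCl.X 4 ∨
    y * (g : Fi24) * y⁻¹ = (H842.ThreeCl.X 4)⁻¹) : PI x0 g := by
  let f : Spor.Fi24' →* Spor.Fi24' := (MulAut.conjNormal y⁻¹ : MulAut Spor.Fi24').toMonoidHom
  have hf : ∀ z : Spor.Fi24', ((f z : Spor.Fi24') : Fi24) = y⁻¹ * (z : Fi24) * y := by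
    intro z
    show ((MulAut.conjNormal y⁻¹ z : Spor.Fi24') : Fi24) = _
    rw [MulAut.conjNormal_apply, inv_inv]
  have hinj : Function.Injective f := (MulAut.conjNormal y⁻¹ : MulAut Spor.Fi24').injective
  have hP : PI p4 (s4 * p4 * s4⁻¹ * p4⁻¹) := PI.comm rfl
  have e1 : (g : Fi24) = y⁻¹ * (y * (g : Fi24) * y⁻¹) * y := by group
  rcases h with h | h
  · have h1 : f (s4 * p4 * s4⁻¹ * p4⁻¹) = g := by
      apply Subtype.ext
      rw [hf, ← x4_eq, e1, h]
    have h2 := hP.map f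
    rw [h1] at h2
    exact pi_change (orderOf_map f hinj order_p4) h2
  · have h1 : f (s4 * p4 * s4⁻¹ * p4⁻¹)⁻¹ = g := by
      apply Subtype.ext
      rw [hf, Subgroup.coe_inv, ← x4_eq, e1, h]
    have h2 := hP.inv_right.map f
    rw [h1] at h2
    exact pi_change (orderOf_map f hinj order_p4) h2

/-! ### The elements commuting with a transposition -/

/-- **the elements commuting with a transposition**, from the row `Fi23` -/
theorem pi_fix (h23 : ∀ k : Spor.Fi23, k ≠ 1 → ∃ x : Spor.Fi23, orderOf x = 23 ∧ PI x k) (g : Spor.Fi24') (d : Fi24)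
    (hd : d ∈ L) (hg : Commute (g : Fi24) d) : PI x0 g := by
  obtain ⟨c, rfl⟩ := isConj_iff.1 (show IsConj (Cfsg.Agent.Fischer.Fi24Class.gen .l) d from hd)
  have h1 : (c⁻¹ * (g : Fi24) * c) * Cfsg.Agent.Fischer.Fi24Class.gen .l =
      Cfsg.Agent.Fischer.Fi24Class.gen .l * (c⁻¹ * (g : Fi24) * c) := by
    calc (c⁻¹ * (g : Fi24) * c) * Cfsg.Agent.Fischer.Fi24Class.gen .l
        = c⁻¹ * ((g : Fi24) * (c * Cfsg.Agent.Fischer.Fi24Class.gen .l * c⁻¹)) * c := by group
      _ = c⁻¹ * ((c * Cfsg.Agent.Fischer.Fi24Class.gen .l * c⁻¹) * (g : Fi24)) * c := by rw [hg.eq]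
      _ = Cfsg.Agent.Fischer.Fi24Class.gen .l * (c⁻¹ * (g : Fi24) * c) := by group
  have h2 : sgn (c⁻¹ * (g : Fi24) * c) = 1 := by
    rw [map_mul, map_mul, map_inv, mem_commutator_iff.1 g.2, mul_one, inv_mul_cancel]
  obtain ⟨k, hk⟩ := (facts.mem_range_iff _).2 ⟨h1, h2⟩
  have hn : ∀ x : Spor.Fi23, c * facts.phi x * c⁻¹ ∈ commutator Fi24 := by
    intro x
    rw [mem_commutator_iff, map_mul, map_mul, map_inv, facts.sgn_phi, mul_one, mul_inv_cancel]
  let f : Spor.Fi23 →* Spor.Fi24' :=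
    { toFun := fun x => ⟨c * facts.phi x * c⁻¹, hn x⟩
      map_one' := Subtype.ext (by
        show c * facts.phi 1 * c⁻¹ = 1
        rw [map_one]; group)
      map_mul' := fun x y => Subtype.ext (by
        show c * facts.phi (x * y) * c⁻¹ = c * facts.phi x * c⁻¹ * (c * facts.phi y * c⁻¹)
        rw [map_mul]; group) }
  have hfg : f k = g := Subtype.ext (by
    show c * facts.phi k * c⁻¹ = (g : Fi24)
    rw [hk]; group)
  by_cases hk1 : k = 1
  · rw [← hfg, hk1, map_one]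
    exact PI.one
  obtain ⟨x, hx, h⟩ := h23 k hk1
  have h3 := h.map f
  rw [hfg] at h3
  refine pi_change (orderOf_map f ?_ hx) h3
  intro a b hab
  have h4 : c * facts.phi a * c⁻¹ = c * facts.phi b * c⁻¹ := congrArg Subtype.val hab
  exact facts.phi_injective (by
    have : facts.phi a = c⁻¹ * (c * facts.phi a * c⁻¹) * c := by group
    rw [this, h4]; group)

end Cfsg.Agent.H713.TC.FiTF
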